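-- Team project OHYP (S5992), shared bridge (helper92): the polar form as a bilinear form, its
-- restriction to a subspace, and "plus type ⇔ (-1)^f · Gram determinant is a square".
import Cfsg.Agent.Lib.Helper23.OHyp.Defs
import Cfsg.Agent.Lib.Helper99.Disc

set_option autoImplicit false

namespace Cfsg.Agent.Lib.Helper92.OHyp

open Cfsg Cfsg.Geo Cfsg.Agent.Lib.Helper23.OHyp Module

universe u

section bridge

variable {F : Type u} [Field F] {ι : Type} {Q : (ι → F) → F}

/-- The polar form of a nondegenerate quadratic form as a bilinear form. -/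
noncomputable def polB (hQ : IsNondegenerateQuadraticForm Q) : LinearMap.BilinForm F (ι → F) :=
  LinearMap.mk₂ F (QuadraticMap.polar Q) hQ.polar_bilinear.add_left
    (fun c x v => by simpa using hQ.polar_bilinear.smul_left c x v)
    hQ.polar_bilinear.add_right
    (fun c v x => by simpa using hQ.polar_bilinear.smul_right c v x)

lemma polB_apply (hQ : IsNondegenerateQuadraticForm Q) (u v : ι → F) :
    polB hQ u v = QuadraticMap.polar Q u v := rfl

/-- The polar form restricted to a subspace. -/
noncomputable def resB (hQ : IsNondegenerateQuadraticForm Q) (W : Submodule F (ι → F)) :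
    LinearMap.BilinForm F W := (polB hQ).restrict W

lemma resB_apply (hQ : IsNondegenerateQuadraticForm Q) (W : Submodule F (ι → F)) (a b : W) :
    resB hQ W a b = QuadraticMap.polar Q (a : ι → F) (b : ι → F) := rfl

lemma resB_symm (hQ : IsNondegenerateQuadraticForm Q) (W : Submodule F (ι → F)) (a b : W) :
    resB hQ W a b = resB hQ W b a := by
  rw [resB_apply, resB_apply, QuadraticMap.polar_comm]

lemma polar_self_eq (hQ : IsNondegenerateQuadraticForm Q) (u : ι → F) :
    QuadraticMap.polar Q u u = 2 * Q u := by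
  have h := hQ.smul 2 u
  rw [two_smul] at h
  rw [QuadraticMap.polar, h]
  ring

lemma polar_zero_of_sing (u v : ι → F) (h1 : Q (u + v) = 0) (h2 : Q u = 0) (h3 : Q v = 0) :
    QuadraticMap.polar Q u v = 0 := by
  rw [QuadraticMap.polar, h1, h2, h3]; ring

/-- `Nd Q W` gives nondegeneracy of the restricted bilinear form. -/
lemma resB_nondeg (hQ : IsNondegenerateQuadraticForm Q) (W : Submodule F (ι → F))
    (hW : Nd Q W) : (resB hQ W).Nondegenerate := by
  constructor
  · intro x hx
    by_contra hne
    have hne' : (x : ι → F) ≠ 0 := fun h => hne (Subtype.ext h)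
    obtain ⟨y, hy, hyx⟩ := (hW x x.2 hne').2
    exact hyx (hx ⟨y, hy⟩)
  · intro x hx
    by_contra hne
    have hne' : (x : ι → F) ≠ 0 := fun h => hne (Subtype.ext h)
    obtain ⟨y, hy, hyx⟩ := (hW x x.2 hne').1
    exact hyx (hx ⟨y, hy⟩)

/-- Nondegeneracy of the restricted bilinear form gives `Nd Q W`. -/
lemma nd_of_resB_nondeg (hQ : IsNondegenerateQuadraticForm Q) (W : Submodule F (ι → F))
    (h : (resB hQ W).Nondegenerate) : Nd Q W := by
  intro w hw hw0
  have hne : (⟨w, hw⟩ : W) ≠ 0 := fun h0 => hw0 (congrArg Subtype.val h0)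
  have h1 : ∃ y : W, resB hQ W ⟨w, hw⟩ y ≠ 0 := by
    by_contra hcon
    exact hne (h.1 _ (fun y => by
      by_contra hy
      exact hcon ⟨y, hy⟩))
  obtain ⟨y, hy⟩ := h1
  refine ⟨⟨y, y.2, ?_⟩, ⟨y, y.2, hy⟩⟩
  rw [QuadraticMap.polar_comm]
  exact hy

/-- Plus type in terms of a totally isotropic subspace of the restricted form. -/
lemma plus_iff_ti (hQ : IsNondegenerateQuadraticForm Q) (h2 : (2 : F) ≠ 0)
    (W : Submodule F (ι → F)) (f : ℕ) (hf : finrank F W = 2 * f) :
    Plus Q W ↔ ∃ X : Submodule F W, finrank F X = f ∧ ∀ x ∈ X, ∀ y ∈ X, resB hQ W x y = 0 := by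
  constructor
  · rintro ⟨U, hUW, hsing, hdim⟩
    refine ⟨Submodule.comap W.subtype U, ?_, ?_⟩
    · have h1 : finrank F (Submodule.comap W.subtype U) = finrank F U :=
        (Submodule.comapSubtypeEquivOfLe hUW).finrank_eq
      omega
    · intro x hx y hy
      rw [resB_apply]
      have hx' : (x : ι → F) ∈ U := hx
      have hy' : (y : ι → F) ∈ U := hy
      exact polar_zero_of_sing _ _ (hsing _ (U.add_mem hx' hy')) (hsing _ hx') (hsing _ hy')
  · rintro ⟨X, hX, hti⟩
    refine ⟨X.map W.subtype, ?_, ?_, ?_⟩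
    · rintro _ ⟨x, -, rfl⟩
      exact x.2
    · rintro _ ⟨x, hx, rfl⟩
      have h1 := hti x hx x hx
      rw [resB_apply, polar_self_eq hQ] at h1
      exact (mul_eq_zero.mp h1).resolve_left h2
    · have h1 : finrank F (X.map W.subtype) = finrank F X :=
        (Submodule.equivMapOfInjective W.subtype (Submodule.injective_subtype W) X).finrank_eq.symm
      omega

/-- The Gram matrix of the restricted polar form in a basis of `W`. -/
noncomputable def gramW (hQ : IsNondegenerateQuadraticForm Q) (W : Submodule F (ι → F))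
    {κ : Type} (b : Basis κ F W) : Matrix κ κ F :=
  Matrix.of fun i j => resB hQ W (b i) (b j)

lemma gramW_det_ne_zero (hQ : IsNondegenerateQuadraticForm Q) (W : Submodule F (ι → F))
    (hW : Nd Q W) {κ : Type} [Fintype κ] [DecidableEq κ] (b : Basis κ F W) :
    (gramW hQ W b).det ≠ 0 := by
  have h := (LinearMap.BilinForm.nondegenerate_iff_det_ne_zero (B := resB hQ W) b).1
    (resB_nondeg hQ W hW)
  have h6 : LinearMap.BilinForm.toMatrix b (resB hQ W) = gramW hQ W b := by
    ext i j
    simp [LinearMap.BilinForm.toMatrix_apply, gramW]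
  rwa [h6] at h

/-- Plus type ⇔ `(-1)^f` times the Gram determinant is a square (finite field, `2 ≠ 0`). -/
theorem plus_iff_isSquare [Fintype F] [Finite ι] (hQ : IsNondegenerateQuadraticForm Q)
    (h2 : (2 : F) ≠ 0)
    (W : Submodule F (ι → F)) (hW : Nd Q W) (f : ℕ) (hf : finrank F W = 2 * f)
    {κ : Type} [Fintype κ] [DecidableEq κ] (b : Basis κ F W) :
    Plus Q W ↔ IsSquare ((-1) ^ f * (gramW hQ W b).det) := by
  rw [plus_iff_ti hQ h2 W f hf]
  constructor
  · rintro ⟨X, hX, hti⟩
    obtain ⟨s, hs⟩ := Cfsg.Agent.Lib.Helper99.ti_half_disc h2 (resB hQ W) (resB_symm hQ W) f hf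
      X hX hti b
    refine ⟨s, ?_⟩
    have hone : ((-1 : F) ^ f) * ((-1) ^ f) = 1 := by
      rw [← mul_pow]; simp
    show (-1) ^ f * (Matrix.of fun i j => resB hQ W (b i) (b j)).det = s * s
    rw [hs]
    linear_combination (s * s) * hone
  · intro hsq
    exact Cfsg.Agent.Lib.Helper99.exists_ti_of_disc h2 (resB hQ W) (resB_nondeg hQ W hW)
      (resB_symm hQ W) f hf b hsq

end bridge

/-- In a finite field, a product of two nonzero elements is a square iff both or neither are. -/
lemma isSquare_mul_iff' {F : Type u} [Field F] [Fintype F] {a b : F} (ha : a ≠ 0) (hb : b ≠ 0) :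
    IsSquare (a * b) ↔ (IsSquare a ↔ IsSquare b) := by
  classical
  rw [← quadraticChar_one_iff_isSquare ha, ← quadraticChar_one_iff_isSquare hb,
    ← quadraticChar_one_iff_isSquare (mul_ne_zero ha hb), map_mul]
  rcases quadraticChar_dichotomy ha with h1 | h1 <;> rcases quadraticChar_dichotomy hb with h3 | h3
    <;> rw [h1, h3] <;> decide

end Cfsg.Agent.Lib.Helper92.OHyp
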