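-- Team project OHYP (S5992), package [SUM] (helper92): orthogonal sums of nondegenerate
-- subspaces: nondegenerate, dimensions add, and the type is the "product" of the types.
import Cfsg.Agent.Lib.Helper92.OHyp.PlusDisc

set_option autoImplicit false

namespace Cfsg.Agent.Lib.Helper92.OHyp

open Cfsg Cfsg.Geo Cfsg.Agent.Lib.Helper23.OHyp Module

universe u

section sum

variable {F : Type u} [Field F] {ι : Type} {Q : (ι → F) → F}

lemma perp_disjoint (W₁ W₂ : Submodule F (ι → F)) (h1 : Nd Q W₁) (hperp : Perp Q W₁ W₂) :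
    Disjoint W₁ W₂ := by
  rw [Submodule.disjoint_def]
  intro x hx1 hx2
  by_contra hne
  obtain ⟨y, hy, hyx⟩ := (h1 x hx1 hne).1
  exact hyx (hperp y hy x hx2)

lemma nd_sup (hQ : IsNondegenerateQuadraticForm Q) (W₁ W₂ : Submodule F (ι → F))
    (h1 : Nd Q W₁) (h2 : Nd Q W₂) (hperp : Perp Q W₁ W₂) : Nd Q (W₁ ⊔ W₂) := by
  intro w hw hw0
  obtain ⟨y, hy, z, hz, rfl⟩ := Submodule.mem_sup.mp hw
  have key : ∃ x ∈ W₁ ⊔ W₂, QuadraticMap.polar Q x (y + z) ≠ 0 := by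
    by_cases hy0 : y = 0
    · have hz0 : z ≠ 0 := by
        rintro rfl
        exact hw0 (by simp [hy0])
      obtain ⟨x, hx, hxz⟩ := (h2 z hz hz0).1
      refine ⟨x, Submodule.mem_sup_right hx, ?_⟩
      rw [hQ.polar_bilinear.add_right, QuadraticMap.polar_comm Q x y, hperp y hy x hx, zero_add]
      exact hxz
    · obtain ⟨x, hx, hxy⟩ := (h1 y hy hy0).1
      refine ⟨x, Submodule.mem_sup_left hx, ?_⟩
      rw [hQ.polar_bilinear.add_right, hperp x hx z hz, add_zero]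
      exact hxy
  obtain ⟨x, hx, hxw⟩ := key
  exact ⟨⟨x, hx, hxw⟩, ⟨x, hx, by rwa [QuadraticMap.polar_comm]⟩⟩

lemma finrank_sup_of_disjoint [Finite ι] (W₁ W₂ : Submodule F (ι → F)) (hdisj : Disjoint W₁ W₂) :
    finrank F ↥(W₁ ⊔ W₂) = finrank F W₁ + finrank F W₂ := by
  have h3 := Submodule.finrank_sup_add_finrank_inf_eq W₁ W₂
  rw [disjoint_iff.mp hdisj, finrank_bot, add_zero] at h3
  exact h3

/-- A basis of `W₁ ⊔ W₂` glued from bases of the orthogonal summands: the Gram determinant is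
the product of the Gram determinants. -/
lemma gram_sup_det [Finite ι] (hQ : IsNondegenerateQuadraticForm Q) (W₁ W₂ : Submodule F (ι → F))
    (hdisj : Disjoint W₁ W₂) (hperp : Perp Q W₁ W₂)
    {κ₁ κ₂ : Type} [Fintype κ₁] [DecidableEq κ₁] [Fintype κ₂] [DecidableEq κ₂]
    (b₁ : Basis κ₁ F W₁) (b₂ : Basis κ₂ F W₂) :
    ∃ c : Basis (κ₁ ⊕ κ₂) F ↥(W₁ ⊔ W₂),
      (∀ i, (c (Sum.inl i) : ι → F) = b₁ i) ∧ (∀ j, (c (Sum.inr j) : ι → F) = b₂ j) ∧
      (gramW hQ (W₁ ⊔ W₂) c).det = (gramW hQ W₁ b₁).det * (gramW hQ W₂ b₂).det := by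
  classical
  set v : κ₁ ⊕ κ₂ → ↥(W₁ ⊔ W₂) :=
    Sum.elim (fun i => ⟨b₁ i, Submodule.mem_sup_left (b₁ i).2⟩)
      (fun j => ⟨b₂ j, Submodule.mem_sup_right (b₂ j).2⟩) with hv
  have hli : LinearIndependent F v := by
    apply LinearIndependent.of_comp (W₁ ⊔ W₂).subtype
    have h1 : (W₁ ⊔ W₂).subtype ∘ v = Sum.elim (W₁.subtype ∘ b₁) (W₂.subtype ∘ b₂) := by
      funext s
      rcases s with i | j <;> rfl
    rw [h1]
    apply LinearIndependent.sum_type
      (b₁.linearIndependent.map' W₁.subtype (Submodule.ker_subtype W₁))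
      (b₂.linearIndependent.map' W₂.subtype (Submodule.ker_subtype W₂))
    have e1 : Submodule.span F (Set.range (W₁.subtype ∘ b₁)) = W₁ := by
      rw [Set.range_comp, ← Submodule.map_span, b₁.span_eq, Submodule.map_subtype_top]
    have e2 : Submodule.span F (Set.range (W₂.subtype ∘ b₂)) = W₂ := by
      rw [Set.range_comp, ← Submodule.map_span, b₂.span_eq, Submodule.map_subtype_top]
    rw [e1, e2]
    exact hdisj
  have hcard : Fintype.card (κ₁ ⊕ κ₂) = finrank F ↥(W₁ ⊔ W₂) := by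
    rw [finrank_sup_of_disjoint W₁ W₂ hdisj, Fintype.card_sum,
      ← Module.finrank_eq_card_basis b₁, ← Module.finrank_eq_card_basis b₂]
  let c : Basis (κ₁ ⊕ κ₂) F ↥(W₁ ⊔ W₂) := basisOfLinearIndependentOfCardEqFinrank' v hli hcard
  have hc : ∀ s, c s = v s := fun s => by simp [c]
  refine ⟨c, fun i => by rw [hc]; rfl, fun j => by rw [hc]; rfl, ?_⟩
  have hG : gramW hQ (W₁ ⊔ W₂) c = Matrix.fromBlocks (gramW hQ W₁ b₁) 0 0 (gramW hQ W₂ b₂) := by
    ext s t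
    rcases s with i | i <;> rcases t with j | j
    · simp [gramW, hc, hv, resB_apply]
    · simp only [gramW, hc, hv, resB_apply, Matrix.of_apply, Sum.elim_inl, Sum.elim_inr,
        Matrix.fromBlocks_apply₁₂, Matrix.zero_apply]
      exact hperp _ (b₁ i).2 _ (b₂ j).2
    · simp only [gramW, hc, hv, resB_apply, Matrix.of_apply, Sum.elim_inl, Sum.elim_inr,
        Matrix.fromBlocks_apply₂₁, Matrix.zero_apply]
      rw [QuadraticMap.polar_comm]
      exact hperp _ (b₁ j).2 _ (b₂ i).2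
    · simp [gramW, hc, hv, resB_apply]
  rw [hG, Matrix.det_fromBlocks_zero₁₂]

end sum

/-- Package [SUM]. -/
theorem pkgSum : PkgSum.{u} := by
  intro F _ _ ι _ _ Q hQ h2 W₁ W₂ h1 h2' hperp
  have hdisj := perp_disjoint W₁ W₂ h1 hperp
  have hnd := nd_sup hQ W₁ W₂ h1 h2' hperp
  have hdim := finrank_sup_of_disjoint W₁ W₂ hdisj
  refine ⟨hnd, hdim, ?_⟩
  rintro ⟨f₁, hf₁⟩ ⟨f₂, hf₂⟩
  obtain ⟨c, -, -, hc⟩ := gram_sup_det hQ W₁ W₂ hdisj hperp (Module.finBasis F W₁)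
    (Module.finBasis F W₂)
  have hd1 := gramW_det_ne_zero hQ W₁ h1 (Module.finBasis F W₁)
  have hd2 := gramW_det_ne_zero hQ W₂ h2' (Module.finBasis F W₂)
  have hm1 : ((-1 : F) ^ f₁) ≠ 0 := pow_ne_zero _ (by simp)
  have hm2 : ((-1 : F) ^ f₂) ≠ 0 := pow_ne_zero _ (by simp)
  rw [plus_iff_isSquare hQ h2 (W₁ ⊔ W₂) hnd (f₁ + f₂) (by omega) c,
    plus_iff_isSquare hQ h2 W₁ h1 f₁ (by omega) (Module.finBasis F W₁),
    plus_iff_isSquare hQ h2 W₂ h2' f₂ (by omega) (Module.finBasis F W₂), hc,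
    ← isSquare_mul_iff' (mul_ne_zero hm1 hd1) (mul_ne_zero hm2 hd2)]
  have hring : (-1 : F) ^ (f₁ + f₂) * ((gramW hQ W₁ (Module.finBasis F W₁)).det *
      (gramW hQ W₂ (Module.finBasis F W₂)).det) =
      (-1) ^ f₁ * (gramW hQ W₁ (Module.finBasis F W₁)).det *
        ((-1) ^ f₂ * (gramW hQ W₂ (Module.finBasis F W₂)).det) := by
    ring
  rw [hring]

end Cfsg.Agent.Lib.Helper92.OHyp
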